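import Groth.Prelude.Def_ModSite
import Groth.Agent.QCoh.ToSheaf
import Mathlib.Topology.Sheaves.SheafCondition.UniqueGluing
import Mathlib.CategoryTheory.Sites.EpiMono
import Mathlib.Algebra.Homology.ShortComplex.ExactFunctor

/-!
# Direct image of modules along closed embeddings of ringed spaces
-/

set_option autoImplicit false
set_option linter.unusedSectionVars false
set_option linter.style.haveILetI false
set_option backward.isDefEq.respectTransparency false
set_option backward.isDefEq.respectTransparency.types false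
set_option maxHeartbeats 1000000

universe u

open CategoryTheory CategoryTheory.Limits TopologicalSpace Opposite

noncomputable section

namespace Groth.Agent.ClosedRinged

variable {Z X : TopCat.{u}}

section Res

variable {O : TopCat.Sheaf CommRingCat.{u} X}

/-- Restriction of sections of a module. -/
abbrev res (M : ModSite.Mod O) {U V : Opens X} (h : V ≤ U) (s : M.val.obj (op U)) : M.val.obj (op V) :=
  M.val.map (homOfLE h).op s

/-- Restriction of functions. -/
abbrev resO (O : TopCat.Sheaf CommRingCat.{u} X) {U V : Opens X} (h : V ≤ U)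
    (a : (ModSite.ringSh O).obj.obj (op U)) : (ModSite.ringSh O).obj.obj (op V) :=
  (ModSite.ringSh O).obj.map (homOfLE h).op a

variable (M : ModSite.Mod O)

theorem res_res {U V W : Opens X} (h : V ≤ U) (h' : W ≤ V) (s : M.val.obj (op U)) :
    res M h' (res M h s) = res M (h'.trans h) s :=
  (PresheafOfModules.map_comp_apply M.val (homOfLE h).op (homOfLE h').op s).symm

theorem res_self {U : Opens X} (h : U ≤ U) (s : M.val.obj (op U)) : res M h s = s :=
  CategoryTheory.congr_fun (M.val.presheaf.map_id (op U)) s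

theorem resO_resO {U V W : Opens X} (h : V ≤ U) (h' : W ≤ V) (a : (ModSite.ringSh O).obj.obj (op U)) :
    resO O h' (resO O h a) = resO O (h'.trans h) a :=
  (CategoryTheory.congr_fun ((ModSite.ringSh O).obj.map_comp (homOfLE h).op (homOfLE h').op) a).symm

theorem resO_self {U : Opens X} (h : U ≤ U) (a : (ModSite.ringSh O).obj.obj (op U)) : resO O h a = a :=
  CategoryTheory.congr_fun ((ModSite.ringSh O).obj.map_id (op U)) a

theorem res_smul {U V : Opens X} (h : V ≤ U) (a : (ModSite.ringSh O).obj.obj (op U)) (s : M.val.obj (op U)) :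
    res M h (a • s) = resO O h a • res M h s :=
  M.val.map_smul (homOfLE h).op a s

theorem ext_locally {U : Opens X} (s t : M.val.obj (op U))
    (h : ∀ x ∈ U, ∃ (V : Opens X) (hV : V ≤ U), x ∈ V ∧ res M hV s = res M hV t) : s = t := by
  choose V hV hxV he using h
  exact TopCat.Sheaf.eq_of_locally_eq' (C := AddCommGrpCat.{u}) ⟨M.val.presheaf, M.isSheaf⟩
    (fun p : U => V p.1 p.2) U (fun p => homOfLE (hV p.1 p.2))
    (fun x hx => Opens.mem_iSup.2 ⟨⟨x, hx⟩, hxV x hx⟩) s t fun p => he p.1 p.2

theorem eq_of_empty {U : Opens X} (hU : ∀ x, x ∉ U) (s t : M.val.obj (op U)) : s = t :=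
  ext_locally M s t fun x hx => absurd hx (hU x)

theorem exists_glue {ι : Type u} {V : Opens X} (U : ι → Opens X) (hU : ∀ j, U j ≤ V)
    (hcover : ∀ x ∈ V, ∃ j, x ∈ U j) (sf : ∀ j, M.val.obj (op (U j)))
    (h : ∀ j l, res M (inf_le_left : U j ⊓ U l ≤ U j) (sf j) = res M (inf_le_right : U j ⊓ U l ≤ U l) (sf l)) :
    ∃ s : M.val.obj (op V), ∀ j, res M (hU j) s = sf j := by
  let sf' : ∀ j, ToType (M.val.presheaf.obj (op (U j))) := sf
  obtain ⟨g, hg, -⟩ := TopCat.Sheaf.existsUnique_gluing' (C := AddCommGrpCat.{u}) ⟨M.val.presheaf, M.isSheaf⟩ U V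
    (fun j => homOfLE (hU j)) (fun x hx => Opens.mem_iSup.2 (hcover x hx)) sf' fun j l => h j l
  exact ⟨g, fun j => hg j⟩

theorem res_add {U V : Opens X} (h : V ≤ U) (s t : M.val.obj (op U)) : res M h (s + t) = res M h s + res M h t :=
  map_add (M.val.map (homOfLE h).op).hom s t

theorem res_zero {U V : Opens X} (h : V ≤ U) : res M h 0 = 0 := map_zero (M.val.map (homOfLE h).op).hom

end Res

variable (i : Z ⟶ X) {O_Z : TopCat.Sheaf CommRingCat.{u} Z} {O_X : TopCat.Sheaf CommRingCat.{u} X}
  (c : O_X ⟶ ((Opens.map i).sheafPushforwardContinuous CommRingCat.{u}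
    (Opens.grothendieckTopology X) (Opens.grothendieckTopology Z)).obj O_Z)

/-- The inverse image of an open. -/
abbrev pre (U : Opens X) : Opens Z := (Opens.map i).obj U

/-- The map on functions. -/
abbrev cc (U : Opens X) (a : (ModSite.ringSh O_X).obj.obj (op U)) :
    (ModSite.ringSh O_Z).obj.obj (op (pre i U)) :=
  ((ModSite.RMor.ofFlat (Opens.map i) c).sharpR.hom.app (op U)).hom a

theorem pre_mono {U V : Opens X} (h : V ≤ U) : pre i V ≤ pre i U := fun _ hz => h hz

theorem cc_res {U V : Opens X} (h : V ≤ U) (a : (ModSite.ringSh O_X).obj.obj (op U)) :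
    cc i c V (resO O_X h a) = resO O_Z (pre_mono i h) (cc i c U a) :=
  CategoryTheory.congr_fun ((ModSite.RMor.ofFlat (Opens.map i) c).sharpR.hom.naturality (homOfLE h).op) a

/-- Direct image. -/
abbrev push : ModSite.Mod O_Z ⥤ ModSite.Mod O_X := (ModSite.RMor.ofFlat (Opens.map i) c).push

theorem push_smul (M : ModSite.Mod O_Z) (U : Opens X) (a : (ModSite.ringSh O_X).obj.obj (op U))
    (s : M.val.obj (op (pre i U))) :
    (show M.val.obj (op (pre i U)) from a • (show ((push i c).obj M).val.obj (op U) from s)) =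
      cc i c U a • s := rfl

variable {i c} (hi : Topology.IsClosedEmbedding i) (hc : Sheaf.IsLocallySurjective c)

include hc in
theorem exists_lift {W : Opens X} {x : X} (hx : x ∈ W) (r : (ModSite.ringSh O_Z).obj.obj (op (pre i W))) :
    ∃ (U : Opens X) (hU : U ≤ W) (a : (ModSite.ringSh O_X).obj.obj (op U)),
      x ∈ U ∧ cc i c U a = resO O_Z (pre_mono i hU) r := by
  haveI : Presheaf.IsLocallySurjective (Opens.grothendieckTopology X) c.hom := hc
  obtain ⟨U, f, ⟨a, ha⟩, hxU⟩ := Presheaf.imageSieve_mem (Opens.grothendieckTopology X) c.hom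
    (U := op W) r x hx
  exact ⟨U, f.le, a, hxU, ha⟩

/-- The largest open with given inverse image. -/
abbrev ext (V : Opens Z) : Opens X := hi.isInducing.functorObj V

theorem pre_ext (V : Opens Z) : pre i (ext hi V) = V := hi.isInducing.map_functorObj V

theorem le_ext_iff {U : Opens X} {V : Opens Z} : U ≤ ext hi V ↔ pre i U ≤ V := hi.isInducing.le_functorObj_iff

theorem le_ext_pre (U : Opens X) : U ≤ ext hi (pre i U) := (le_ext_iff hi).2 le_rfl

theorem ext_mono {V W : Opens Z} (h : W ≤ V) : ext hi W ≤ ext hi V :=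
  (le_ext_iff hi).2 ((pre_ext hi W).trans_le h)

/-- The complement of the image. -/
def off : Opens X := ⟨(Set.range i)ᶜ, hi.isClosed_range.isOpen_compl⟩

theorem not_mem_pre_off {U : Opens X} (z : Z) : z ∉ pre i (U ⊓ off hi) := fun h => h.2 ⟨z, rfl⟩

theorem exists_nhd {U : Opens X} {V : Opens Z} (hUV : pre i U ≤ V) {x : X} (hx : x ∈ U) :
    (∃ z, i z = x ∧ z ∈ V) ∨ x ∈ U ⊓ off hi := by
  by_cases h : x ∈ Set.range i
  · obtain ⟨z, rfl⟩ := h
    exact Or.inl ⟨z, rfl, hUV hx⟩
  · exact Or.inr ⟨hx, h⟩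

include hi hc in
theorem epi_map {M N : ModSite.Mod O_Z} (f : M ⟶ N) [Epi f] : Epi ((push i c).map f) := by
  haveI : Sheaf.IsLocallySurjective ((SheafOfModules.toSheaf (ModSite.ringSh O_Z)).map f) :=
    (Sheaf.isLocallySurjective_iff_epi' _ _).2 (QCoh.toSheaf_map_epi _ f)
  refine (SheafOfModules.toSheaf (ModSite.ringSh O_X)).epi_of_epi_map
    ((Sheaf.isLocallySurjective_iff_epi' _ _).1 ⟨fun {U} s x hx => ?_⟩)
  rcases exists_nhd hi (U := U) (V := pre i U) le_rfl hx with ⟨z, rfl, hz⟩ | hoff
  · obtain ⟨V, g, ⟨t, ht⟩, hzV⟩ := Presheaf.imageSieve_mem (Opens.grothendieckTopology Z)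
      ((SheafOfModules.toSheaf (ModSite.ringSh O_Z)).map f).hom (U := op (pre i U)) s z hz
    let U' : Opens X := U ⊓ ext hi V
    have hU' : pre i U' ≤ V := (pre_mono i inf_le_right).trans (pre_ext hi V).le
    refine ⟨U', homOfLE inf_le_left, ⟨res M hU' t, ?_⟩, hx, (hi.isInducing.mem_functorObj_iff V).2 hzV⟩
    show f.val.app (op (pre i U')) (res M hU' t) = res N (pre_mono i inf_le_left) s
    refine (PresheafOfModules.naturality_apply f.val (homOfLE hU').op t).trans ?_
    refine (congrArg (res N hU') ht).trans ?_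
    exact res_res N g.le hU' s
  · refine ⟨U ⊓ off hi, homOfLE inf_le_left, ⟨(0 : M.val.obj (op (pre i (U ⊓ off hi)))), ?_⟩, hoff⟩
    exact eq_of_empty N (not_mem_pre_off hi) _ _

include hi hc in
theorem preservesFiniteColimits_push : PreservesFiniteColimits (push i c) := by
  refine ((Functor.preservesFiniteColimits_tfae (push i c)).out 0 3).1 fun S hS => ?_
  haveI := hS.epi_g
  haveI := hS.mono_f
  refine ⟨?_, epi_map hi hc S.g⟩
  exact ShortComplex.exact_of_f_is_kernel _ (KernelFork.mapIsLimit _ hS.fIsKernel (push i c))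

include hi in
theorem faithful_push : (push i c).Faithful := ⟨fun {M N} f g h => by
  apply SheafOfModules.Hom.ext
  refine PresheafOfModules.hom_ext fun V => ?_
  obtain ⟨V⟩ := V
  have key : ∀ W : Opens Z, W = V → f.val.app (op W) = g.val.app (op W) → f.val.app (op V) = g.val.app (op V) := by
    rintro W rfl e; exact e
  refine key _ (pre_ext hi V) ?_
  ext s
  exact congrArg (fun q : (push i c).obj M ⟶ (push i c).obj N => q.val.app (op (ext hi V)) s) h⟩

section Full

variable {M N : ModSite.Mod O_Z} (φ : (push i c).obj M ⟶ (push i c).obj N)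

/-- A morphism of direct images at an open. -/
def appO (U : Opens X) (s : M.val.obj (op (pre i U))) : N.val.obj (op (pre i U)) :=
  φ.val.app (op U) s

theorem appO_add (U : Opens X) (s t : M.val.obj (op (pre i U))) :
    appO φ U (s + t) = appO φ U s + appO φ U t :=
  map_add (φ.val.app (op U)).hom s t

theorem appO_smul (U : Opens X) (a : (ModSite.ringSh O_X).obj.obj (op U)) (s : M.val.obj (op (pre i U))) :
    appO φ U (cc i c U a • s) = cc i c U a • appO φ U s :=
  (φ.val.app (op U)).hom.map_smul a s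

theorem appO_res {U U' : Opens X} (h : U' ≤ U) (s : M.val.obj (op (pre i U))) :
    appO φ U' (res M (pre_mono i h) s) = res N (pre_mono i h) (appO φ U s) :=
  PresheafOfModules.naturality_apply φ.val (homOfLE h).op s

/-- The morphism on an open of the source. -/
def appV (V : Opens Z) (s : M.val.obj (op V)) : N.val.obj (op V) :=
  res N (pre_ext hi V).ge (appO φ (ext hi V) (res M (pre_ext hi V).le s))

theorem appV_key {V : Opens Z} {U : Opens X} (h : pre i U ≤ V) (s : M.val.obj (op V)) :
    res N h (appV hi φ V s) = appO φ U (res M h s) := by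
  have hU : U ≤ ext hi V := (le_ext_iff hi).2 h
  rw [appV, res_res, ← appO_res φ hU, res_res]

theorem appV_res {V W : Opens Z} (h : W ≤ V) (s : M.val.obj (op V)) :
    appV hi φ W (res M h s) = res N h (appV hi φ V s) := by
  have h1 := appV_key hi φ (U := ext hi W) ((pre_ext hi W).trans_le h) s
  have h2 := appV_key hi φ (U := ext hi W) (pre_ext hi W).le (res M h s)
  rw [res_res, ← h1] at h2
  have h3 := congrArg (res N (pre_ext hi W).ge) h2
  simp only [res_res, res_self] at h3
  exact h3

theorem appV_add (V : Opens Z) (s t : M.val.obj (op V)) :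
    appV hi φ V (s + t) = appV hi φ V s + appV hi φ V t := by
  rw [appV, appV, appV, res_add, appO_add, res_add]

include hc in
theorem appV_smul (V : Opens Z) (r : (ModSite.ringSh O_Z).obj.obj (op V)) (s : M.val.obj (op V)) :
    appV hi φ V (r • s) = r • appV hi φ V s := by
  refine ext_locally N _ _ fun z hz => ?_
  obtain ⟨U, hU, a, hxU, ha⟩ := exists_lift hc (W := ext hi V)
    ((hi.isInducing.mem_functorObj_iff V).2 hz) (resO O_Z (pre_ext hi V).le r)
  rw [resO_resO] at ha
  have hle : pre i U ≤ V := (pre_mono i hU).trans (pre_ext hi V).le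
  refine ⟨pre i U, hle, hxU, ?_⟩
  rw [appV_key hi φ hle, res_smul, res_smul, ← ha, appO_smul, appV_key hi φ hle]

/-- The morphism inducing a given morphism of direct images. -/
def preimage : M ⟶ N where
  val := PresheafOfModules.homMk
    { app := fun V => AddCommGrpCat.ofHom (AddMonoidHom.mk' (appV hi φ V.unop) (appV_add hi φ V.unop))
      naturality := fun V W f => by
        ext s
        exact appV_res hi φ (leOfHom f.unop) s }
    fun V r m => appV_smul hi hc φ V.unop r m

theorem map_preimage : (push i c).map (preimage hi hc φ) = φ := by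
  apply SheafOfModules.Hom.ext
  refine PresheafOfModules.hom_ext fun U => ?_
  ext s
  show appV hi φ (pre i U.unop) s = appO φ U.unop s
  have h := appV_key hi φ (U := U.unop) (V := pre i U.unop) le_rfl s
  rwa [res_self, res_self] at h

end Full

include hi hc in
theorem full_push : (push i c).Full := ⟨fun φ => ⟨preimage hi hc φ, map_preimage hi hc φ⟩⟩

section EssImage

variable {G : ModSite.Mod O_X}
  (hG : ∀ (U : Opens X) (a : (ModSite.ringSh O_X).obj.obj (op U)), cc i c U a = 0 →
    ∀ s : G.val.obj (op U), a • s = 0)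

include hG in
theorem eq_of_pre_empty {U : Opens X} (hU : ∀ z, z ∉ pre i U) (s t : G.val.obj (op U)) : s = t := by
  have h1 : cc i c U 1 = 0 := by
    refine TopCat.Sheaf.eq_of_locally_eq' (C := CommRingCat.{u}) O_Z (fun e : PEmpty.{u + 1} => e.elim)
      (pre i U) (fun e => e.elim) (fun z hz => absurd hz (hU z)) _ _ fun e => e.elim
  rw [← one_smul ((ModSite.ringSh O_X).obj.obj (op U)) s, ← one_smul ((ModSite.ringSh O_X).obj.obj (op U)) t,
    hG U 1 h1, hG U 1 h1]

include hi hG in
theorem ext_of_range {U : Opens X} (s t : G.val.obj (op U))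
    (h : ∀ z, i z ∈ U → ∃ (V : Opens X) (hV : V ≤ U), i z ∈ V ∧ res G hV s = res G hV t) : s = t := by
  refine ext_locally G s t fun x hx => ?_
  rcases exists_nhd hi (V := ⊤) le_top hx with ⟨z, rfl, -⟩ | hoff
  · exact h z hx
  · exact ⟨U ⊓ off hi, inf_le_left, hoff, eq_of_pre_empty hG (not_mem_pre_off hi) _ _⟩

/-- The property defining the scalar action. -/
def IsSmul (V : Opens Z) (r : (ModSite.ringSh O_Z).obj.obj (op V)) (s t : G.val.obj (op (ext hi V))) : Prop :=
  ∀ (U : Opens X) (h : U ≤ ext hi V) (a : (ModSite.ringSh O_X).obj.obj (op U)),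
    cc i c U a = resO O_Z ((le_ext_iff hi).1 h) r → res G h t = a • res G h s

include hc hG in
theorem exists_isSmul (V : Opens Z) (r : (ModSite.ringSh O_Z).obj.obj (op V)) (s : G.val.obj (op (ext hi V))) :
    ∃ t, IsSmul (c := c) hi V r s t := by
  let ι := Σ U : Opens X, {a : (ModSite.ringSh O_X).obj.obj (op U) //
    ∃ h : U ≤ ext hi V, cc i c U a = resO O_Z ((le_ext_iff hi).1 h) r}
  have hle : ∀ j : ι, j.1 ≤ ext hi V := fun j => j.2.2.choose
  have hcover : ∀ x ∈ ext hi V, ∃ j : ι, x ∈ j.1 := by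
    intro x hx
    rcases exists_nhd hi (pre_ext hi V).le hx with ⟨z, rfl, hz⟩ | hoff
    · obtain ⟨U, hU, a, hxU, ha⟩ := exists_lift hc hx (resO O_Z (pre_ext hi V).le r)
      rw [resO_resO] at ha
      exact ⟨⟨U, a, hU, ha⟩, hxU⟩
    · refine ⟨⟨ext hi V ⊓ off hi, 0, inf_le_left, ?_⟩, hoff⟩
      exact TopCat.Sheaf.eq_of_locally_eq' (C := CommRingCat.{u}) O_Z (fun e : PEmpty.{u + 1} => e.elim)
        _ (fun e => e.elim) (fun z hz => absurd hz (not_mem_pre_off hi z)) _ _ fun e => e.elim
  have hcompat : ∀ (U₁ U₂ : Opens X) (h₁ : U₁ ≤ ext hi V) (h₂ : U₂ ≤ ext hi V) (a₁ a₂),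
      cc i c U₁ a₁ = resO O_Z ((le_ext_iff hi).1 h₁) r → cc i c U₂ a₂ = resO O_Z ((le_ext_iff hi).1 h₂) r →
      res G (inf_le_left : U₁ ⊓ U₂ ≤ U₁) (a₁ • res G h₁ s) =
        res G (inf_le_right : U₁ ⊓ U₂ ≤ U₂) (a₂ • res G h₂ s) := by
    intro U₁ U₂ h₁ h₂ a₁ a₂ e₁ e₂
    rw [res_smul, res_smul, res_res, res_res, ← sub_eq_zero, ← sub_smul]
    refine hG _ _ ?_ _
    rw [show cc i c (U₁ ⊓ U₂) (resO O_X inf_le_left a₁ - resO O_X inf_le_right a₂) =
      cc i c (U₁ ⊓ U₂) (resO O_X inf_le_left a₁) - cc i c (U₁ ⊓ U₂) (resO O_X inf_le_right a₂) from map_sub _ _ _,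
      cc_res, cc_res, e₁, e₂, resO_resO, resO_resO]
    exact sub_self _
  obtain ⟨t, ht⟩ := exists_glue G (fun j : ι => j.1) hle hcover
    (fun j => (j.2.1 : (ModSite.ringSh O_X).obj.obj (op j.1)) • res G (hle j) s)
    fun j l => hcompat _ _ _ _ _ _ j.2.2.choose_spec l.2.2.choose_spec
  exact ⟨t, fun U h a ha => ht ⟨U, a, h, ha⟩⟩

/-- The scalar action. -/
def smulV (V : Opens Z) (r : (ModSite.ringSh O_Z).obj.obj (op V)) (s : G.val.obj (op (ext hi V))) :
    G.val.obj (op (ext hi V)) :=
  (exists_isSmul hi hc hG V r s).choose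

theorem smulV_spec (V : Opens Z) (r : (ModSite.ringSh O_Z).obj.obj (op V)) (s : G.val.obj (op (ext hi V))) :
    IsSmul (c := c) hi V r s (smulV hi hc hG V r s) :=
  (exists_isSmul hi hc hG V r s).choose_spec

include hc hG in
theorem eq_of_lifts (V : Opens Z) (t t' : G.val.obj (op (ext hi V)))
    (rs : List ((ModSite.ringSh O_Z).obj.obj (op V)))
    (h : ∀ (U : Opens X) (hU : U ≤ ext hi V),
      (∀ r ∈ rs, ∃ a, cc i c U a = resO O_Z ((le_ext_iff hi).1 hU) r) → res G hU t = res G hU t') : t = t' := by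
  refine ext_of_range hi hG t t' fun z hz => ?_
  obtain ⟨U, hU, hxU, hl⟩ : ∃ (U : Opens X) (hU : U ≤ ext hi V), i z ∈ U ∧
      ∀ r ∈ rs, ∃ a, cc i c U a = resO O_Z ((le_ext_iff hi).1 hU) r := by
    clear h
    induction rs with
    | nil => exact ⟨ext hi V, le_rfl, hz, by simp⟩
    | cons r rs ih =>
      obtain ⟨U, hU, hxU, hl⟩ := ih
      obtain ⟨U', hU', a, hxU', ha⟩ := exists_lift hc hxU (resO O_Z ((le_ext_iff hi).1 hU) r)
      rw [resO_resO] at ha
      refine ⟨U', hU'.trans hU, hxU', fun q hq => ?_⟩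
      rcases List.mem_cons.1 hq with rfl | hq
      · exact ⟨a, ha⟩
      · obtain ⟨b, hb⟩ := hl q hq
        exact ⟨resO O_X hU' b, by rw [cc_res, hb, resO_resO]⟩
  exact ⟨U, hU, hxU, h U hU hl⟩

/-- The sections of the module on the source. -/
abbrev Sec (G : ModSite.Mod O_X) (V : (Opens Z)ᵒᵖ) : Type u := G.val.obj (op (ext hi V.unop))

/-- The module structure on the sections. -/
def moduleV (V : (Opens Z)ᵒᵖ) : Module ((ModSite.ringSh O_Z).obj.obj V) (Sec hi G V) where
  smul r s := smulV hi hc hG V.unop r s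
  one_smul s := eq_of_lifts hi hc hG V.unop _ _ [] fun U hU _ =>
    (smulV_spec hi hc hG V.unop 1 s U hU 1 ((map_one _).trans (map_one _).symm)).trans (one_smul _ _)
  mul_smul r r' s := eq_of_lifts hi hc hG V.unop _ _ [r, r'] fun U hU hl => by
    obtain ⟨a, ha⟩ := hl r (by simp)
    obtain ⟨a', ha'⟩ := hl r' (by simp)
    show res G hU (smulV hi hc hG V.unop (r * r') s) = res G hU (smulV hi hc hG V.unop r (smulV hi hc hG V.unop r' s))
    rw [smulV_spec hi hc hG V.unop r _ U hU a ha, smulV_spec hi hc hG V.unop r' _ U hU a' ha',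
      smulV_spec hi hc hG V.unop (r * r') _ U hU (a * a') (by
        rw [show cc i c U (a * a') = cc i c U a * cc i c U a' from map_mul _ _ _, ha, ha']
        exact (map_mul _ _ _).symm), mul_smul]
  smul_zero r := eq_of_lifts hi hc hG V.unop _ _ [r] fun U hU hl => by
    obtain ⟨a, ha⟩ := hl r (by simp)
    show res G hU (smulV hi hc hG V.unop r 0) = res G hU 0
    rw [smulV_spec hi hc hG V.unop r _ U hU a ha]
    rw [res_zero]
    exact smul_zero _
  smul_add r s t := eq_of_lifts hi hc hG V.unop _ _ [r] fun U hU hl => by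
    obtain ⟨a, ha⟩ := hl r (by simp)
    show res G hU (smulV hi hc hG V.unop r (s + t)) =
      res G hU (smulV hi hc hG V.unop r s + smulV hi hc hG V.unop r t)
    rw [smulV_spec hi hc hG V.unop r _ U hU a ha]
    rw [res_add, res_add, smul_add]
    rw [smulV_spec hi hc hG V.unop r s U hU a ha, smulV_spec hi hc hG V.unop r t U hU a ha]
  add_smul r r' s := eq_of_lifts hi hc hG V.unop _ _ [r, r'] fun U hU hl => by
    obtain ⟨a, ha⟩ := hl r (by simp)
    obtain ⟨a', ha'⟩ := hl r' (by simp)
    show res G hU (smulV hi hc hG V.unop (r + r') s) =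
      res G hU (smulV hi hc hG V.unop r s + smulV hi hc hG V.unop r' s)
    rw [smulV_spec hi hc hG V.unop (r + r') s U hU (a + a') (by
        rw [show cc i c U (a + a') = cc i c U a + cc i c U a' from map_add _ _ _, ha, ha']
        exact (map_add _ _ _).symm), add_smul, res_add]
    rw [smulV_spec hi hc hG V.unop r s U hU a ha, smulV_spec hi hc hG V.unop r' s U hU a' ha']
  zero_smul s := eq_of_lifts hi hc hG V.unop _ _ [] fun U hU _ => by
    show res G hU (smulV hi hc hG V.unop 0 s) = res G hU 0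
    rw [smulV_spec hi hc hG V.unop 0 s U hU 0 ((map_zero _).trans (map_zero _).symm), zero_smul, res_zero]

/-- The presheaf of abelian groups on the source. -/
def preP (G : ModSite.Mod O_X) : (Opens Z)ᵒᵖ ⥤ AddCommGrpCat.{u} :=
  hi.isInducing.functor.op ⋙ G.val.presheaf

theorem isSheaf_preP (hG : ∀ (U : Opens X) (a : (ModSite.ringSh O_X).obj.obj (op U)), cc i c U a = 0 →
    ∀ s : G.val.obj (op U), a • s = 0) : Presheaf.IsSheaf (Opens.grothendieckTopology Z) (preP hi G) := by
  refine (TopCat.Presheaf.isSheaf_iff_isSheafUniqueGluing (preP hi G)).2 fun κ V sf hsf => ?_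
  let U : Option κ → Opens X := fun o => o.elim (ext hi (iSup V) ⊓ off hi) fun j => ext hi (V j)
  have hU : ∀ o, U o ≤ ext hi (iSup V) := fun o => o.rec inf_le_left fun j => ext_mono hi (le_iSup V j)
  have hcov : ∀ x ∈ ext hi (iSup V), ∃ o, x ∈ U o := by
    intro x hx
    rcases exists_nhd hi (pre_ext hi (iSup V)).le hx with ⟨z, rfl, hz⟩ | hoff
    · obtain ⟨j, hj⟩ := Opens.mem_iSup.1 hz
      exact ⟨some j, (hi.isInducing.mem_functorObj_iff (V j)).2 hj⟩
    · exact ⟨none, hoff⟩
  let s' : ∀ o, G.val.obj (op (U o)) := fun o => o.rec 0 fun j => sf j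
  obtain ⟨g, hg⟩ := exists_glue G U hU hcov s' fun o p => by
    cases o with
    | none => exact eq_of_pre_empty hG (fun z hz => not_mem_pre_off hi z
          (((Opens.mem_inf (x := i z)).1 hz).1)) _ _
    | some j =>
      cases p with
      | none => exact eq_of_pre_empty hG (fun z hz => not_mem_pre_off hi z
          (((Opens.mem_inf (x := i z)).1 hz).2)) _ _
      | some l =>
        have hle : ext hi (V j) ⊓ ext hi (V l) ≤ ext hi (V j ⊓ V l) := (le_ext_iff hi).2 (le_inf
          ((pre_mono i inf_le_left).trans (pre_ext hi _).le) ((pre_mono i inf_le_right).trans (pre_ext hi _).le))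
        have h := congrArg (res G hle) (hsf j l)
        have h' : res G hle (res G (ext_mono hi inf_le_left) (sf j)) =
            res G hle (res G (ext_mono hi inf_le_right) (sf l)) := h
        rw [res_res, res_res] at h'
        exact h'
  refine ⟨g, fun j => hg (some j), fun g' hg' => ?_⟩
  refine ext_of_range hi hG _ _ fun z hz => ?_
  obtain ⟨j, hj⟩ := Opens.mem_iSup.1 ((hi.isInducing.mem_functorObj_iff _).1 hz)
  exact ⟨ext hi (V j), ext_mono hi (le_iSup V j), (hi.isInducing.mem_functorObj_iff (V j)).2 hj,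
    (hg' j).trans (hg (some j)).symm⟩

/-- The module on the source. -/
def preMod : ModSite.Mod O_Z :=
  letI : ∀ V : (Opens Z)ᵒᵖ, Module ((ModSite.ringSh O_Z).obj.obj V) ((preP hi G).obj V) :=
    fun V => moduleV hi hc hG V
  ⟨PresheafOfModules.ofPresheaf (preP hi G) fun {V W} f r s => by
    refine eq_of_lifts hi hc hG W.unop _ _ [(ModSite.ringSh O_Z).obj.map f r] fun U hU hl => ?_
    obtain ⟨a, ha⟩ := hl _ (List.mem_singleton.2 rfl)
    have hf : W.unop ≤ V.unop := leOfHom f.unop
    show res G hU (res G (ext_mono hi hf) (smulV hi hc hG V.unop r s)) =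
      res G hU (smulV hi hc hG W.unop ((ModSite.ringSh O_Z).obj.map f r) (res G (ext_mono hi hf) s))
    rw [smulV_spec hi hc hG W.unop _ _ U hU a ha, res_res, res_res]
    refine smulV_spec hi hc hG V.unop r s U (hU.trans (ext_mono hi hf)) a (ha.trans ?_)
    exact resO_resO hf ((le_ext_iff hi).1 hU) r, isSheaf_preP hi hG⟩

/-- The comparison map. -/
def cmp (U : Opens X) : G.val.obj (op (ext hi (pre i U))) → G.val.obj (op U) := res G (le_ext_pre hi U)

include hG in
theorem bijective_cmp (U : Opens X) : Function.Bijective (cmp hi (G := G) U) := by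
  refine ⟨fun s t h => ?_, fun s => ?_⟩
  · refine ext_of_range hi hG s t fun z hz => ?_
    exact ⟨U, le_ext_pre hi U, (hi.isInducing.mem_functorObj_iff (pre i U)).1 hz, h⟩
  · let W : Option PUnit.{u + 1} → Opens X := fun o => o.elim (ext hi (pre i U) ⊓ off hi) fun _ => U
    let s' : ∀ o, G.val.obj (op (W o)) := fun o => o.rec 0 fun _ => s
    have hcov : ∀ x ∈ ext hi (pre i U), ∃ o, x ∈ W o := fun x hx => by
      rcases exists_nhd hi (pre_ext hi _).le hx with ⟨z, rfl, hz⟩ | hoff
      · exact ⟨some PUnit.unit, hz⟩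
      · exact ⟨none, hoff⟩
    obtain ⟨g, hg⟩ := exists_glue G W (fun o => o.rec inf_le_left fun _ => le_ext_pre hi U) hcov s'
      fun o p => by
        cases o with
        | none => exact eq_of_pre_empty hG (fun z hz => not_mem_pre_off hi z
          (((Opens.mem_inf (x := i z)).1 hz).1)) _ _
        | some j =>
          cases p with
          | none => exact eq_of_pre_empty hG (fun z hz => not_mem_pre_off hi z
          (((Opens.mem_inf (x := i z)).1 hz).2)) _ _
          | some l => rfl
    exact ⟨g, hg (some PUnit.unit)⟩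

/-- The direct image of `preMod`, on presheaves. -/
def preIso : ((push i c).obj (preMod hi hc hG)).val ≅ G.val :=
  PresheafOfModules.isoMk
    (fun U => (LinearEquiv.ofBijective (R := (ModSite.ringSh O_X).obj.obj U) (R₂ := (ModSite.ringSh O_X).obj.obj U)
      (σ₁₂ := RingHom.id _) (σ₂₁ := RingHom.id _)
      (M := ((push i c).obj (preMod hi hc hG)).val.obj U) (M₂ := G.val.obj U)
      { toFun := cmp hi U.unop
        map_add' := fun s t => map_add (G.val.map (homOfLE (le_ext_pre hi U.unop)).op).hom s t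
        map_smul' := fun a s => by
          show res G (le_ext_pre hi U.unop) (smulV hi hc hG (pre i U.unop) (cc i c U.unop a) s) = _
          exact smulV_spec hi hc hG (pre i U.unop) (cc i c U.unop a) s U.unop (le_ext_pre hi U.unop) a
            (resO_self le_rfl _).symm }
      (bijective_cmp hi hG U.unop)).toModuleIso)
    fun U W f => by
      ext s
      show res G (le_ext_pre hi W.unop) (res G (ext_mono hi (pre_mono i (leOfHom f.unop))) s) =
        res G (leOfHom f.unop) (res G (le_ext_pre hi U.unop) s)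
      rw [res_res, res_res]

end EssImage

include hi hc in
theorem essImage_iff (G : ModSite.Mod O_X) :
    (push i c).essImage G ↔
      ∀ (U : Opens X) (a : (ModSite.ringSh O_X).obj.obj (op U)), cc i c U a = 0 →
        ∀ s : G.val.obj (op U), a • s = 0 := by
  refine ⟨fun ⟨N, ⟨e⟩⟩ U a ha s => ?_, fun hG => ⟨preMod hi hc hG,
    ⟨(SheafOfModules.fullyFaithfulForget _).preimageIso (preIso hi hc hG)⟩⟩⟩
  have h1 : e.hom.val.app (op U) (e.inv.val.app (op U) (a • s)) = a • s :=
    congrArg (fun q : G ⟶ G => q.val.app (op U) (a • s)) e.inv_hom_id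
  rw [← h1, (e.inv.val.app (op U)).hom.map_smul]
  have h2 : a • (e.inv.val.app (op U) s) = (0 : ((push i c).obj N).val.obj (op U)) :=
    (push_smul i c N U a _).trans (by rw [ha]; exact zero_smul _ _)
  rw [h2, map_zero]

end Groth.Agent.ClosedRinged
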